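import Groth.Agent.DivAlg.Insep

/-! Degree `3`: Wedderburn's factorisation. -/

namespace Groth.Agent.DivAlg

open Module

variable {K : Type*} [Field K] {A : Type*} [DivisionRing A] [Algebra K A] [FiniteDimensional K A]

theorem semiconj_root {y c d T S N : A} (hT : ∀ x, Commute T x) (hS : ∀ x, Commute S x)
    (hN : ∀ x, Commute N x) (h : y * c = d * y) :
    y * (c * c * c - T * (c * c) + S * c - N) = (d * d * d - T * (d * d) + S * d - N) * y := by
  have h2 : y * (c * c) = d * d * y := by rw [← mul_assoc, h, mul_assoc, h, ← mul_assoc]
  have h3 : y * (c * c * c) = d * d * d * y := by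
    rw [← mul_assoc, h2, mul_assoc, h, ← mul_assoc]
  rw [mul_sub, mul_add, mul_sub, h3, ← mul_assoc y T, ← (hT y).eq, mul_assoc T y, h2,
    ← mul_assoc y S, ← (hS y).eq, mul_assoc S y, h, ← (hN y).eq]
  noncomm_ring

/-- Second and third roots of a cubic from a first one and a root of the quotient. -/
theorem factor {x a c T S N : A} (hT : ∀ x, Commute T x) (hS : ∀ x, Commute S x)
    (hN : ∀ x, Commute N x) (ha : a * a * a - T * (a * a) + S * a - N = 0)
    (hq : c * c + a * c + a * a - T * c - T * a + S = 0)
    (hca : Commute c a) (hxa : Commute x a) (hxc : Commute x c) :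
    (x - (T - a - c)) * (x - c) * (x - a) = x * x * x - T * (x * x) + S * x - N := by
  let R : Subring A := Subring.closure ({T, S, N, a, c, x} : Set A)
  have hc : ∀ u ∈ ({T, S, N, a, c, x} : Set A), ∀ v ∈ ({T, S, N, a, c, x} : Set A), Commute u v := by
    intro u hu v hv
    simp only [Set.mem_insert_iff, Set.mem_singleton_iff] at hu hv
    rcases hu with rfl | rfl | rfl | rfl | rfl | rfl <;>
      rcases hv with rfl | rfl | rfl | rfl | rfl | rfl <;>
      first
      | exact Commute.refl _
      | exact hT _ | exact (hT _).symm
      | exact hS _ | exact (hS _).symm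
      | exact hN _ | exact (hN _).symm
      | exact hca | exact hca.symm | exact hxa | exact hxa.symm | exact hxc | exact hxc.symm
  let _ : CommRing R := Subring.closureCommRingOfComm (fun u hu v hv => (hc u hu v hv).eq)
  have hm : ∀ u ∈ ({T, S, N, a, c, x} : Set A), u ∈ R := fun u hu => Subring.subset_closure hu
  let T' : R := ⟨T, hm _ (by simp)⟩
  let S' : R := ⟨S, hm _ (by simp)⟩
  let N' : R := ⟨N, hm _ (by simp)⟩
  let a' : R := ⟨a, hm _ (by simp)⟩
  let c' : R := ⟨c, hm _ (by simp)⟩
  let x' : R := ⟨x, hm _ (by simp)⟩
  have e1 : a' * a' * a' - T' * (a' * a') + S' * a' - N' = 0 := Subtype.ext ha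
  have e2 : c' * c' + a' * c' + a' * a' - T' * c' - T' * a' + S' = 0 := Subtype.ext hq
  have : (x' - (T' - a' - c')) * (x' - c') * (x' - a') =
      x' * x' * x' - T' * (x' * x') + S' * x' - N' := by
    linear_combination (a' - x') * e2 - e1
  exact congrArg Subtype.val this

variable [Algebra.IsCentral K A]

theorem three [CharP K 3] (hA : finrank K A = 3 ^ 2) : ∃ v : A, ¬ IsSeparable K v := by
  have hch : CharP A 3 := charP_of_injective_algebraMap (algebraMap K A).injective 3
  have h3 : (3 : A) = 0 := CharP.cast_eq_zero A 3
  obtain ⟨a, ha⟩ := exists_not_mem_bot Nat.prime_three hA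
  obtain ⟨g, hg⟩ := exists_not_commute ha
  obtain ⟨t, s, n, hf⟩ := exists_cubic hA ha
  set T := algebraMap K A t
  set S := algebraMap K A s
  set N := algebraMap K A n
  have hT : ∀ x, Commute T x := fun x => Algebra.commutes t x
  have hS : ∀ x, Commute S x := fun x => Algebra.commutes s x
  have hN : ∀ x, Commute N x := fun x => Algebra.commutes n x
  by_cases hts : t = 0 ∧ s = 0
  · refine ⟨a, not_separable hA (fun h => hg h.symm) ?_⟩
    have haa : a ^ 3 = N := by
      rw [show T = 0 by simp [T, hts.1], show S = 0 by simp [S, hts.2]] at hf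
      rw [pow_succ, pow_two]
      linear_combination (norm := noncomm_ring) hf
    rw [haa]; exact hN g
  have hg0 : g ≠ 0 := fun h => hg (h ▸ Commute.zero_left a)
  set b := g * a * g⁻¹ with hb
  have hgb : g * a = b * g := by rw [hb, mul_assoc, inv_mul_cancel₀ hg0, mul_one]
  have hfb : b * b * b - T * (b * b) + S * b - N = 0 := by
    have h := semiconj_root hT hS hN hgb
    rw [hf, mul_zero] at h
    exact (mul_eq_zero.1 h.symm).resolve_right hg0
  set u := b - a with hu
  have hu0 : u ≠ 0 := fun h => hg (by
    show g * a = a * g
    rw [hgb, sub_eq_zero.1 h])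
  set e := u * b * u⁻¹ with he
  have heu : e * u = u * b := by rw [he, mul_assoc, inv_mul_cancel₀ hu0, mul_one]
  have hq : e * e + a * e + a * a - T * e - T * a + S = 0 := by
    have : (e * e + a * e + a * a - T * e - T * a + S) * u =
        b * b * b - a * a * a - T * (b * b) + T * (a * a) + S * b - S * a := by
      calc (e * e + a * e + a * a - T * e - T * a + S) * u
          = e * (e * u) + a * (e * u) + a * a * u - T * (e * u) - T * (a * u) + S * u := by
            noncomm_ring
        _ = e * u * b + a * (u * b) + a * a * u - T * (u * b) - T * (a * u) + S * u := by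
            rw [heu, ← mul_assoc e u b, heu]
        _ = _ := by rw [heu, hu]; noncomm_ring
    refine (mul_eq_zero.1 (this.trans ?_)).resolve_right hu0
    linear_combination (norm := noncomm_ring) hfb - hf
  by_cases hea : Commute e a
  swap
  · set h := T - e - a with hh
    set y := e * a - a * e with hy
    have hy0 : y ≠ 0 := fun h' => hea (sub_eq_zero.1 h')
    have hee : e * e + a * e + a * a = T * e + T * a - S := by
      linear_combination (norm := noncomm_ring) hq
    have key : ∀ z, (e * e + a * e + a * a) * z - z * (e * e + a * e + a * a) =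
        T * (e * z - z * e) + T * (a * z - z * a) := by
      intro z
      rw [hee]
      have e1 : z * (T * e) = T * (z * e) := by rw [← mul_assoc, ← (hT z).eq, mul_assoc]
      have e2 : z * (T * a) = T * (z * a) := by rw [← mul_assoc, ← (hT z).eq, mul_assoc]
      calc (T * e + T * a - S) * z - z * (T * e + T * a - S)
          = T * (e * z) + T * (a * z) - z * (T * e) - z * (T * a) - (S * z - z * S) := by
            noncomm_ring
        _ = _ := by rw [e1, e2, (hS z).eq]; noncomm_ring
    have hye : y * e = h * y := by
      have h1 := key a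
      rw [sub_self, mul_zero, add_zero, ← hy] at h1
      calc y * e = (e * e + a * e + a * a) * a - a * (e * e + a * e + a * a) - e * y - a * y := by
            rw [hy]; noncomm_ring
        _ = T * y - e * y - a * y := by rw [h1]
        _ = h * y := by rw [hh]; noncomm_ring
    have hya : y * a = e * y := by
      have h1 := key e
      rw [sub_self, mul_zero, zero_add,
        show a * e - e * a = -y by rw [hy, neg_sub], mul_neg] at h1
      calc y * a = -((e * e + a * e + a * a) * e - e * (e * e + a * e + a * a)) - y * e - a * y := by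
            rw [hy]; noncomm_ring
        _ = T * y - h * y - a * y := by rw [h1, neg_neg, hye]
        _ = e * y := by rw [hh]; noncomm_ring
    refine ⟨y, not_separable hA (a := a) (fun hc => ?_)
      (cube_comm hT (r := h) (by rw [hh]; abel) hya hye)⟩
    rw [hc.eq, eq_comm, ← sub_eq_zero, ← sub_mul] at hya
    rcases mul_eq_zero.1 hya with h' | h'
    · exact hea (by rw [sub_eq_zero.1 h'])
    · exact hy0 h'
  -- the split case
  set h := T - a - e with hh
  have hha : Commute h a := ((hT a).sub_left (Commute.refl a)).sub_left hea
  have hqh : h * h + a * h + a * a - T * h - T * a + S = 0 := by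
    calc h * h + a * h + a * a - T * h - T * a + S
        = (e * e + a * e + a * a - T * e - T * a + S) + (e * a - a * e) + (T * e - e * T) := by
          rw [hh]; noncomm_ring
      _ = 0 := by rw [hq, hea.eq, (hT e).eq]; noncomm_ring
  -- roots different from `a`
  have hne : ∀ c, c * c + a * c + a * a - T * c - T * a + S = 0 → c ≠ a := by
    rintro c hc rfl
    have h0 : T * c + S = 0 := by
      calc T * c + S = (c * c + c * c + c * c - T * c - T * c + S) - 3 * (c * c) + 3 * (T * c) := by
            noncomm_ring
        _ = 0 := by rw [hc, h3]; noncomm_ring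
    by_cases ht : t = 0
    · refine hts ⟨ht, (map_eq_zero (algebraMap K A)).1 ?_⟩
      rw [show T = 0 by simp [T, ht], zero_mul, zero_add] at h0
      exact h0
    · refine ha (Algebra.mem_bot.2 ⟨-(s / t), ?_⟩)
      have hT0 : T ≠ 0 := fun h' => ht ((map_eq_zero _).1 h')
      apply mul_left_cancel₀ hT0
      rw [← map_mul, show t * -(s / t) = -s by field_simp, map_neg]
      exact (neg_eq_of_add_eq_zero_left h0)
  -- some `c ∈ {e, h}` and `y ≠ 0` with `y a = c y`
  let Φ : A → Module.End K A := fun c => LinearMap.mulRight K a - LinearMap.mulLeft K c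
  have hΦ : ∀ c x, Φ c x = x * a - c * x := fun c x => rfl
  obtain ⟨c, y, hcq, hca, hy0, hya⟩ : ∃ c y, c * c + a * c + a * a - T * c - T * a + S = 0 ∧
      Commute c a ∧ y ≠ 0 ∧ y * a = c * y := by
    by_contra hcon
    push Not at hcon
    have hinj : ∀ c, c * c + a * c + a * a - T * c - T * a + S = 0 → Commute c a →
        Function.Injective (Φ c) := by
      intro c hc1 hc2
      rw [← LinearMap.ker_eq_bot, LinearMap.ker_eq_bot']
      intro x hx
      by_contra hx0
      rw [hΦ, sub_eq_zero] at hx
      exact hcon c x hc1 hc2 hx0 hx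
    have hsur : Function.Surjective (fun x => Φ e (Φ h x)) :=
      (LinearMap.injective_iff_surjective.1 (hinj e hq hea)).comp
        (LinearMap.injective_iff_surjective.1 (hinj h hqh hha))
    apply ha
    rw [← Algebra.IsCentral.center_eq_bot K A, Subalgebra.mem_center_iff]
    intro z
    obtain ⟨x, rfl⟩ := hsur z
    show Φ e (Φ h x) * a = a * Φ e (Φ h x)
    rw [← sub_eq_zero]
    have e1 : a + e + h = T := by rw [hh]; abel
    have e2 : e * h + a * h + a * e = S := by
      calc e * h + a * h + a * e
          = -(e * e + a * e + a * a - T * e - T * a + S) + S + (a * e - e * a)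
            + (e * T - T * e) + (a * T - T * a) := by rw [hh]; noncomm_ring
        _ = S := by rw [hq, hea.eq, ← (hT a).eq, ← (hT e).eq]; noncomm_ring
    have e3 : a * e * h = N := by
      calc a * e * h = (a * a * a - T * (a * a) + S * a - N) + N
            - (e * e + a * e + a * a - T * e - T * a + S) * a
            + ((e * e) * a - a * (e * e)) + (a * e * T - T * (e * a)) := by rw [hh]; noncomm_ring
        _ = N := by
          rw [hf, hq, (hea.mul_left hea).eq, ← (hT (a * e)).eq, hea.eq]
          noncomm_ring
    calc Φ e (Φ h x) * a - a * Φ e (Φ h x)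
        = x * (a * a * a) - (a + e + h) * x * (a * a) + (e * h + a * h + a * e) * x * a
          - a * e * h * x := by simp only [hΦ]; noncomm_ring
      _ = x * (a * a * a) - x * T * (a * a) + x * S * a - x * N := by
          rw [e1, e2, e3, (hT x).eq, (hS x).eq, (hN x).eq]
      _ = x * (a * a * a - T * (a * a) + S * a - N) := by noncomm_ring
      _ = 0 := by rw [hf, mul_zero]
  have hca_ne := hne c hcq
  have hynot : ¬ Commute y a := fun hc => by
    rw [hc.eq, ← sub_eq_zero, ← sub_mul] at hya
    rcases mul_eq_zero.1 hya with h' | h'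
    · exact hca_ne (sub_eq_zero.1 h').symm
    · exact hy0 h'
  set r := T - a - c with hr
  have hra : Commute r a := ((hT a).sub_left (Commute.refl a)).sub_left hca
  obtain ⟨d, hdy⟩ : ∃ d, y * c = d * y :=
    ⟨y * c * y⁻¹, by rw [mul_assoc (y * c), inv_mul_cancel₀ hy0, mul_one]⟩
  have hdc : Commute d c := by
    show d * c = c * d
    refine mul_right_cancel₀ hy0 ?_
    calc d * c * y = d * (y * a) := by rw [hya, mul_assoc]
      _ = y * (c * a) := by rw [← mul_assoc, ← hdy, mul_assoc]
      _ = y * a * c := by rw [hca.eq, mul_assoc]
      _ = c * d * y := by rw [hya, mul_assoc, hdy, mul_assoc]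
  -- `d` commutes with `a` too, since `K[c] = K[a]`
  have hcC : c ∈ Algebra.adjoin K {a} := by
    let C : Subalgebra K A := Subalgebra.centralizer K {a}
    have hC : Algebra.adjoin K {a} ≤ C := by
      rw [Algebra.adjoin_le_iff, Set.singleton_subset_iff]
      exact (Subalgebra.mem_centralizer_iff K).2 fun z hz => by rw [Set.mem_singleton_iff.1 hz]
    have hCne : C ≠ ⊤ := fun htop => hg (by
      have : g ∈ C := htop ▸ Algebra.mem_top
      exact ((Subalgebra.mem_centralizer_iff K).1 this a rfl).symm)
    have hCa : a ∈ C := hC (Algebra.self_mem_adjoin_singleton K a)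
    have heq : Algebra.adjoin K {a} = C := Subalgebra.eq_of_le_of_finrank_eq hC (by
      rw [finrank_adjoin Nat.prime_three hA ha, finrank_eq_prime Nat.prime_three hA C hCa ha hCne])
    rw [heq]
    exact (Subalgebra.mem_centralizer_iff K).2 fun z hz => by
      rw [Set.mem_singleton_iff.1 hz]; exact hca.symm
  have hcK : c ∉ (⊥ : Subalgebra K A) := by
    intro hc0
    obtain ⟨k, hk⟩ := Algebra.mem_bot.1 hc0
    refine no_quad hA ha (t - k) (k * t - k * k - s) ?_
    rw [map_sub, map_sub, map_sub, map_mul, map_mul, hk]
    change a * a = (T - c) * a + (c * T - c * c - S)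
    linear_combination (norm := noncomm_ring) hcq + hca.eq + (hT c).eq
  have hda : Commute d a := by
    have : a ∈ Algebra.adjoin K {c} := by
      rw [adjoin_eq_of_mem Nat.prime_three hA ha hcK hcC]
      exact Algebra.self_mem_adjoin_singleton K a
    exact adjoin_comm hdc this
  have hfc : c * c * c - T * (c * c) + S * c - N = 0 := by
    have h := semiconj_root hT hS hN hya
    rw [hf, mul_zero] at h
    exact (mul_eq_zero.1 h.symm).resolve_right hy0
  have hfd : d * d * d - T * (d * d) + S * d - N = 0 := by
    have h := semiconj_root hT hS hN hdy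
    rw [hfc, mul_zero] at h
    exact (mul_eq_zero.1 h.symm).resolve_right hy0
  have hdr : d = r := by
    have h := factor (x := d) hT hS hN hf hcq hca hda hdc
    rw [hfd] at h
    rcases mul_eq_zero.1 h with h' | h'
    · rcases mul_eq_zero.1 h' with h' | h'
      · exact sub_eq_zero.1 h'
      · -- `d = c` forces `c = a`
        have hdc' := sub_eq_zero.1 h'
        rw [hdc'] at hdy
        refine absurd ?_ hca_ne
        have h4 : y * c = y * a := by rw [hya, hdy]
        exact mul_left_cancel₀ hy0 h4
    · -- `d = a`: the third root is fixed, so it commutes with `y`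
      exfalso
      have hda' := sub_eq_zero.1 h'
      rw [hda'] at hdy
      have hyr : Commute y r := by
        show y * r = r * y
        calc y * r = y * T - y * a - y * c := by rw [hr]; noncomm_ring
          _ = T * y - c * y - a * y := by rw [← (hT y).eq, hya, hdy]
          _ = r * y := by rw [hr]; noncomm_ring
      have hrK : r ∉ (⊥ : Subalgebra K A) := by
        intro hr0
        obtain ⟨k, hk⟩ := Algebra.mem_bot.1 hr0
        have hc' : c = T - a - algebraMap K A k := by rw [hk, hr]; abel
        refine no_quad hA ha (t - k) (k * t - k * k - s) ?_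
        rw [hc'] at hcq
        rw [map_sub, map_sub, map_sub, map_mul, map_mul]
        change a * a = (T - algebraMap K A k) * a +
          (algebraMap K A k * T - algebraMap K A k * algebraMap K A k - S)
        linear_combination (norm := noncomm_ring) hcq
      have hrC : r ∈ Algebra.adjoin K {a} :=
        sub_mem (sub_mem (Subalgebra.algebraMap_mem _ t) (Algebra.self_mem_adjoin_singleton K a)) hcC
      have : a ∈ Algebra.adjoin K {r} := by
        rw [adjoin_eq_of_mem Nat.prime_three hA ha hrK hrC]
        exact Algebra.self_mem_adjoin_singleton K a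
      exact hynot (adjoin_comm hyr this)
  rw [hdr] at hdy
  exact ⟨y, not_separable hA (a := a) hynot (cube_comm hT hr hya hdy)⟩

end Groth.Agent.DivAlg
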