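import Mathlib.FieldTheory.Separable
import Mathlib.FieldTheory.KummerPolynomial
import Mathlib.LinearAlgebra.Charpoly.Basic
import Mathlib.RingTheory.Algebraic.Integral
import Mathlib.Algebra.Central.Basic
import Mathlib.Tactic

/-! Purely inseparable elements of division algebras of degree `2` and `3`. -/

namespace Groth.Agent.DivAlg

open Polynomial Module

variable {K : Type*} [Field K] {A : Type*} [DivisionRing A] [Algebra K A] [FiniteDimensional K A]

theorem finrank_dvd (S : Subalgebra K A) : finrank K S ∣ finrank K A := by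
  let _ : DivisionRing S := divisionRingOfFiniteDimensional K S
  exact ⟨_, (Module.finrank_mul_finrank K S A).symm⟩

theorem finrank_eq_prime {p : ℕ} (hp : p.Prime) (hA : finrank K A = p ^ 2) (S : Subalgebra K A)
    {x : A} (hx : x ∈ S) (hxK : x ∉ (⊥ : Subalgebra K A)) (hS : S ≠ ⊤) : finrank K S = p := by
  obtain ⟨i, hi, hd⟩ := (Nat.dvd_prime_pow hp).1 (hA ▸ finrank_dvd S)
  interval_cases i
  · rw [pow_zero] at hd
    exact absurd ((Subalgebra.eq_bot_of_finrank_one hd) ▸ hx) hxK
  · rw [pow_one] at hd; exact hd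
  · refine absurd (Subalgebra.toSubmodule.injective (Submodule.eq_top_of_finrank_eq ?_)) hS
    rw [Subalgebra.finrank_toSubmodule, hd, hA]

theorem adjoin_comm {a y : A} (h : Commute y a) {z : A} (hz : z ∈ Algebra.adjoin K {a}) :
    Commute y z := by
  have : Algebra.adjoin K {a} ≤ Subalgebra.centralizer K {y} := by
    rw [Algebra.adjoin_le_iff, Set.singleton_subset_iff]
    exact (Subalgebra.mem_centralizer_iff K).2 fun g hg => by rw [Set.mem_singleton_iff.1 hg]; exact h
  exact (Subalgebra.mem_centralizer_iff K).1 (this hz) y rfl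

theorem adjoin_ne_top [Algebra.IsCentral K A] {p : ℕ} (hp : p.Prime) (hA : finrank K A = p ^ 2)
    (x : A) : Algebra.adjoin K {x} ≠ ⊤ := by
  intro h
  have hc : Subalgebra.center K A = ⊤ := by
    rw [eq_top_iff]
    intro z _
    rw [Subalgebra.mem_center_iff]
    intro w
    have hw : w ∈ Algebra.adjoin K {x} := h ▸ Algebra.mem_top
    have hz : z ∈ Algebra.adjoin K {x} := h ▸ Algebra.mem_top
    exact (adjoin_comm ((adjoin_comm (Commute.refl x) hz).symm) hw).eq.symm
  have hb : (⊥ : Subalgebra K A) = ⊤ := by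
    rw [← hc, Algebra.IsCentral.center_eq_bot]
  have h1 : finrank K A = 1 := Subalgebra.bot_eq_top_iff_finrank_eq_one.1 hb
  have := hp.two_le
  rw [hA] at h1
  exact absurd h1 (ne_of_gt (Nat.one_lt_pow two_ne_zero hp.one_lt))

theorem finrank_adjoin [Algebra.IsCentral K A] {p : ℕ} (hp : p.Prime) (hA : finrank K A = p ^ 2)
    {x : A} (hx : x ∉ (⊥ : Subalgebra K A)) : finrank K (Algebra.adjoin K {x}) = p :=
  finrank_eq_prime hp hA _ (Algebra.self_mem_adjoin_singleton K x) hx (adjoin_ne_top hp hA x)

theorem adjoin_eq_of_mem [Algebra.IsCentral K A] {p : ℕ} (hp : p.Prime) (hA : finrank K A = p ^ 2)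
    {x z : A} (hx : x ∉ (⊥ : Subalgebra K A)) (hz : z ∉ (⊥ : Subalgebra K A))
    (hmem : z ∈ Algebra.adjoin K {x}) : Algebra.adjoin K {z} = Algebra.adjoin K {x} := by
  refine Subalgebra.eq_of_le_of_finrank_eq ?_ (by rw [finrank_adjoin hp hA hx, finrank_adjoin hp hA hz])
  rw [Algebra.adjoin_le_iff, Set.singleton_subset_iff]
  exact hmem

theorem commute_of_mem_bot {x : A} (hx : x ∈ (⊥ : Subalgebra K A)) (a : A) : Commute x a := by
  obtain ⟨k, rfl⟩ := Algebra.mem_bot.1 hx
  exact Algebra.commutes k a

/-- An element whose `p`th power commutes with something it does not commute with. -/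
theorem not_separable [Algebra.IsCentral K A] {p : ℕ} [Fact p.Prime] [CharP K p]
    (hA : finrank K A = p ^ 2) {y a : A} (h : ¬ Commute y a) (hpow : Commute (y ^ p) a) :
    ¬ IsSeparable K y := by
  have hp : p.Prime := Fact.out
  have hy : y ∉ (⊥ : Subalgebra K A) := fun hy => h (commute_of_mem_bot hy a)
  have hyp : y ^ p ∈ (⊥ : Subalgebra K A) := by
    by_contra hne
    have heq := adjoin_eq_of_mem hp hA hy hne
      (pow_mem (Algebra.self_mem_adjoin_singleton K y) p)
    have : y ∈ Algebra.adjoin K {y ^ p} := heq ▸ Algebra.self_mem_adjoin_singleton K y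
    exact h (adjoin_comm hpow.symm this).symm
  obtain ⟨c, hc⟩ := Algebra.mem_bot.1 hyp
  have hroot : ∀ e : K, e ^ p ≠ c := by
    intro e he
    apply hy
    have hch : CharP A p := charP_of_injective_algebraMap (algebraMap K A).injective p
    have h0 : (y - algebraMap K A e) ^ p = 0 := by
      rw [sub_pow_char_of_commute _ (Algebra.commutes e y).symm, ← map_pow, he, hc, sub_self]
    have := pow_eq_zero_iff hp.ne_zero |>.1 h0
    rw [sub_eq_zero] at this
    exact this ▸ Algebra.mem_bot.2 ⟨e, rfl⟩
  have hirr := X_pow_sub_C_irreducible_of_prime hp hroot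
  have hmin : minpoly K y = X ^ p - C c := by
    refine (minpoly.eq_of_irreducible_of_monic hirr ?_ (monic_X_pow_sub_C c hp.ne_zero)).symm
    simp [hc]
  intro hsep
  unfold IsSeparable at hsep
  rw [hmin, Polynomial.separable_def] at hsep
  have hd : derivative (X ^ p - C c : K[X]) = 0 := by
    simp [derivative_X_pow]
  rw [hd, isCoprime_zero_right] at hsep
  exact hirr.not_isUnit hsep

theorem exists_not_commute [Algebra.IsCentral K A] {a : A} (ha : a ∉ (⊥ : Subalgebra K A)) :
    ∃ g, ¬ Commute g a := by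
  by_contra h
  push Not at h
  apply ha
  rw [← Algebra.IsCentral.center_eq_bot K A, Subalgebra.mem_center_iff]
  exact fun b => (h b).eq

theorem exists_not_mem_bot [Algebra.IsCentral K A] {p : ℕ} (hp : p.Prime)
    (hA : finrank K A = p ^ 2) : ∃ a : A, a ∉ (⊥ : Subalgebra K A) := by
  by_contra h
  push Not at h
  have hb : (⊥ : Subalgebra K A) = ⊤ := eq_top_iff.2 fun z _ => h z
  have h1 : finrank K A = 1 := Subalgebra.bot_eq_top_iff_finrank_eq_one.1 hb
  rw [hA] at h1
  exact absurd h1 (ne_of_gt (Nat.one_lt_pow two_ne_zero hp.one_lt))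

theorem exists_monic_root [Algebra.IsCentral K A] {p : ℕ} (hp : p.Prime) (hA : finrank K A = p ^ 2)
    {a : A} (ha : a ∉ (⊥ : Subalgebra K A)) :
    ∃ f : K[X], f.Monic ∧ f.natDegree = p ∧ aeval a f = 0 := by
  have he : ∀ q : K[X], aeval (Algebra.lmul K (Algebra.adjoin K {a})
      ⟨a, Algebra.self_mem_adjoin_singleton K a⟩) q = Algebra.lmul K (Algebra.adjoin K {a})
      (aeval ⟨a, Algebra.self_mem_adjoin_singleton K a⟩ q) := fun q => aeval_algHom_apply _ _ q
  refine ⟨(Algebra.lmul K (Algebra.adjoin K {a}) ⟨a, Algebra.self_mem_adjoin_singleton K a⟩).charpoly,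
    LinearMap.charpoly_monic _, by rw [LinearMap.charpoly_natDegree, finrank_adjoin hp hA ha], ?_⟩
  have h := LinearMap.aeval_self_charpoly
    (Algebra.lmul K (Algebra.adjoin K {a}) ⟨a, Algebra.self_mem_adjoin_singleton K a⟩)
  rw [he] at h
  have h1 := congrArg (fun φ => φ 1) h
  simp at h1
  have h2 := congrArg Subtype.val h1
  simpa [aeval_subalgebra_coe] using h2

theorem exists_quadratic [Algebra.IsCentral K A] (hA : finrank K A = 2 ^ 2)
    {a : A} (ha : a ∉ (⊥ : Subalgebra K A)) :
    ∃ t s : K, a * a - algebraMap K A t * a + algebraMap K A s = 0 := by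
  obtain ⟨f, hm, hd, hf⟩ := exists_monic_root Nat.prime_two hA ha
  have h2 : f.coeff 2 = 1 := hd ▸ hm.coeff_natDegree
  refine ⟨-f.coeff 1, f.coeff 0, ?_⟩
  rw [aeval_eq_sum_range' (n := 3) (by omega)] at hf
  simp [Finset.sum_range_succ, h2, Algebra.smul_def, pow_two] at hf
  rw [← hf, map_neg]
  noncomm_ring

theorem exists_cubic [Algebra.IsCentral K A] (hA : finrank K A = 3 ^ 2)
    {a : A} (ha : a ∉ (⊥ : Subalgebra K A)) :
    ∃ t s n : K, a * a * a - algebraMap K A t * (a * a) + algebraMap K A s * a
      - algebraMap K A n = 0 := by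
  obtain ⟨f, hm, hd, hf⟩ := exists_monic_root Nat.prime_three hA ha
  have h3 : f.coeff 3 = 1 := hd ▸ hm.coeff_natDegree
  refine ⟨-f.coeff 2, f.coeff 1, -f.coeff 0, ?_⟩
  rw [aeval_eq_sum_range' (n := 4) (by omega)] at hf
  simp [Finset.sum_range_succ, h3, Algebra.smul_def, pow_succ] at hf
  rw [← hf, map_neg, map_neg]
  noncomm_ring

theorem two [Algebra.IsCentral K A] [CharP K 2] (hA : finrank K A = 2 ^ 2) :
    ∃ v : A, ¬ IsSeparable K v := by
  obtain ⟨a, ha⟩ := exists_not_mem_bot Nat.prime_two hA
  obtain ⟨b, hb⟩ := exists_not_commute ha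
  obtain ⟨t, s, hq⟩ := exists_quadratic hA ha
  set T := algebraMap K A t
  set S := algebraMap K A s
  have hT : ∀ x, Commute T x := fun x => Algebra.commutes t x
  have hS : ∀ x, Commute S x := fun x => Algebra.commutes s x
  have haa : a * a = T * a - S := by linear_combination (norm := noncomm_ring) hq
  by_cases ht : t = 0
  · refine ⟨a, not_separable hA (fun h => hb h.symm) ?_⟩
    rw [pow_two, haa, show T = 0 by simp [T, ht], zero_mul, zero_sub]
    exact (hS b).neg_left
  set y := a * b - b * a with hy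
  have hy0 : y ≠ 0 := fun h => hb (sub_eq_zero.1 h).symm
  have hsum : y * a + a * y = T * y := by
    calc y * a + a * y = a * a * b - b * (a * a) := by rw [hy]; noncomm_ring
      _ = T * a * b - b * (T * a) - (S * b - b * S) := by rw [haa]; noncomm_ring
      _ = T * y := by
        rw [(hS b).eq, ← mul_assoc b T a, ← (hT b).eq, hy]
        noncomm_ring
  have hya : y * a = (T - a) * y := by linear_combination (norm := noncomm_ring) hsum
  have hch : CharP A 2 := charP_of_injective_algebraMap (algebraMap K A).injective 2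
  refine ⟨y, not_separable hA (a := a) (fun h => ?_) ?_⟩
  · rw [h.eq, sub_mul, eq_sub_iff_add_eq, CharTwo.add_self_eq_zero] at hya
    rcases mul_eq_zero.1 hya.symm with h' | h'
    · exact ht ((map_eq_zero _).1 h')
    · exact hy0 h'
  · show y ^ 2 * a = a * y ^ 2
    calc y ^ 2 * a = y * (y * a) := by rw [pow_two, mul_assoc]
      _ = (y * T - y * a) * y := by
        rw [show y * (y * a) = y * ((T - a) * y) by rw [hya]]
        noncomm_ring
      _ = (T * y - (T - a) * y) * y := by rw [← (hT y).eq, hya]
      _ = a * y ^ 2 := by noncomm_ring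

/-- An element satisfying a quadratic equation lies in the ground field (degree `3`). -/
theorem no_quad [Algebra.IsCentral K A] (hA : finrank K A = 3 ^ 2) {a : A}
    (ha : a ∉ (⊥ : Subalgebra K A)) (α β : K) :
    a * a ≠ algebraMap K A α * a + algebraMap K A β := by
  intro h
  let W : Submodule K A := Submodule.span K {1, a}
  have hle : (Algebra.adjoin K {a}).toSubmodule ≤ W := by
    have haW : a ∈ W := Submodule.subset_span (by simp)
    have h1W : (1 : A) ∈ W := Submodule.subset_span (by simp)
    have hmul : ∀ x ∈ W, x * a ∈ W := by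
      intro x hx
      induction hx using Submodule.span_induction with
      | mem z hz =>
        rcases hz with rfl | rfl
        · rwa [one_mul]
        · rw [h, ← Algebra.smul_def, Algebra.algebraMap_eq_smul_one]
          exact W.add_mem (W.smul_mem _ haW) (W.smul_mem _ h1W)
      | zero => simp
      | add u v _ _ hu hv => rw [add_mul]; exact W.add_mem hu hv
      | smul r u _ hu => rw [smul_mul_assoc]; exact W.smul_mem r hu
    intro x hx
    have : ∀ z ∈ Algebra.adjoin K {a}, ∀ w ∈ W, w * z ∈ W := by
      intro z hz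
      induction hz using Algebra.adjoin_induction with
      | mem z hz => rw [Set.mem_singleton_iff.1 hz]; exact hmul
      | algebraMap r => intro w hw; rw [← Algebra.commutes, ← Algebra.smul_def]; exact W.smul_mem r hw
      | add u v _ _ hu hv => intro w hw; rw [mul_add]; exact W.add_mem (hu w hw) (hv w hw)
      | mul u v _ _ hu hv => intro w hw; rw [← mul_assoc]; exact hv _ (hu w hw)
    simpa using this x hx 1 h1W
  have h2 := Submodule.finrank_mono hle
  rw [Subalgebra.finrank_toSubmodule, finrank_adjoin Nat.prime_three hA ha] at h2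
  have h3 : finrank K W ≤ 2 := by
    classical
    refine le_trans (finrank_span_le_card _) ?_
    rw [Set.toFinset_card]
    refine (Fintype.card_le_of_surjective (fun i : Fin 2 => (if i = 0 then ⟨1, by simp⟩ else ⟨a, by simp⟩ : ({1, a} : Set A))) ?_).trans (by simp)
    rintro ⟨z, rfl | rfl⟩
    · exact ⟨0, by simp⟩
    · exact ⟨1, by simp⟩
  omega

/-- The cyclic step: `y a = c y`, `y c = r y`, `r = t - a - c` gives `y³` commuting with `a`. -/
theorem cube_comm {a c r y T : A} (hT : ∀ x, Commute T x) (hr : r = T - a - c)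
    (h1 : y * a = c * y) (h2 : y * c = r * y) : Commute (y ^ 3) a := by
  have h3 : y * r = a * y := by
    calc y * r = y * T - y * a - y * c := by rw [hr]; noncomm_ring
      _ = T * y - c * y - r * y := by rw [← (hT y).eq, h1, h2]
      _ = a * y := by rw [hr]; noncomm_ring
  show y ^ 3 * a = a * y ^ 3
  calc y ^ 3 * a = y * (y * (y * a)) := by simp [pow_succ, mul_assoc]
    _ = y * ((y * c) * y) := by rw [h1]; simp [mul_assoc]
    _ = (y * r) * y * y := by rw [h2]; simp [mul_assoc]
    _ = a * y ^ 3 := by rw [h3]; simp [pow_succ, mul_assoc]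

end Groth.Agent.DivAlg
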